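import Cfsg.Agent.RG.Comb

set_option autoImplicit false

/-! Root group data: the elements `m(u)`, the groups `N` and `H`, Bruhat decomposition. -/

namespace Cfsg.Agent.RG

open Subgroup Cfsg.Agent.RGD
open scoped commutatorElement Pointwise

namespace RC

variable {Φ ι : Type*} (R : RC Φ ι) {G G' : Type*} [Group G] [Group G']

/-- `g` permutes the root groups like the word `l` -/
def Acts (U : Φ → Subgroup G) (g : G) (l : List ι) : Prop := ∀ r, cj g (U r) = U (R.wd l r)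

/-- `m` is an element `m(u)` for the simple root `i` -/
def IsM (U : Φ → Subgroup G) (i : ι) (m : G) : Prop :=
  (∃ v ∈ U (R.neg (R.α i)), ∃ u ∈ U (R.α i), ∃ v' ∈ U (R.neg (R.α i)), u ≠ 1 ∧ m = v * u * v') ∧
    ∀ r, cj m (U r) = U (R.s i r)

/-- root group data -/
structure IsRGD (U : Φ → Subgroup G) : Prop where
  comm : R.CommRel U
  exM : ∀ i, ∀ u ∈ U (R.α i), u ≠ 1 → ∃ v ∈ U (R.neg (R.α i)), ∃ v' ∈ U (R.neg (R.α i)),
    ∀ r, cj (v * u * v') (U r) = U (R.s i r)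
  ne_bot : ∀ i, U (R.α i) ≠ ⊥
  neg_inf : ∀ i, U (R.neg (R.α i)) ⊓ US U R.Pos = ⊥

/-- the rank one torus -/
def Hi (U : Φ → Subgroup G) (i : ι) : Subgroup G :=
  closure {g | ∃ m m', R.IsM U i m ∧ R.IsM U i m' ∧ g = m * m'⁻¹}

/-- the torus -/
def H0 (U : Φ → Subgroup G) : Subgroup G := ⨆ i, R.Hi U i

/-- products of elements `m(u)` along a word -/
inductive NW (U : Φ → Subgroup G) : List ι → G → Prop
  | nil : NW U [] 1
  | cons {i : ι} {l : List ι} {m n : G} : R.IsM U i m → NW U l n → NW U (i :: l) (m * n)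

/-- the elements normalizing every root group -/
def Tor (U : Φ → Subgroup G) : Subgroup G := ⨅ r, normalizer (U r : Set G)

variable {R} {U : Φ → Subgroup G}

theorem mem_Tor {g : G} : g ∈ Tor U ↔ ∀ r, cj g (U r) = U r := by
  simp only [Tor, mem_iInf, mem_normalizer_iff_cj]

theorem Acts.mul {g g' : G} {l l' : List ι} (h : R.Acts U g l) (h' : R.Acts U g' l') :
    R.Acts U (g * g') (l ++ l') := fun r => by rw [cj_mul, h', h, wd_append]

theorem Acts.inv {g : G} {l : List ι} (h : R.Acts U g l) : R.Acts U g⁻¹ l.reverse := fun r => by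
  apply cj_inv_eq; rw [h, wd_wd_reverse]

theorem Acts.cj_US {g : G} {l : List ι} (h : R.Acts U g l) {S T : Set Φ}
    (hS : ∀ r ∈ S, R.wd l r ∈ T) : cj g (US U S) ≤ US U T :=
  cj_US_le fun r hr => (h r).le.trans (le_US (hS r hr))

theorem Tor_cj_US {g : G} (h : g ∈ Tor U) (S : Set Φ) : cj g (US U S) = US U S := by
  rw [cj, map_US]; congr 1; ext1 r; exact mem_Tor.1 h r

theorem Tor_le_norm (S : Set Φ) : Tor U ≤ normalizer (US U S : Set G) :=
  fun _ hg => mem_normalizer_iff_cj.2 (Tor_cj_US hg S)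

theorem IsM.acts {i : ι} {m : G} (h : R.IsM U i m) : R.Acts U m [i] := h.2

theorem IsM.inv {i : ι} {m : G} (h : R.IsM U i m) : R.IsM U i m⁻¹ := by
  obtain ⟨⟨v, hv, u, hu, v', hv', h1, rfl⟩, h2⟩ := h
  refine ⟨⟨v'⁻¹, inv_mem hv', u⁻¹, inv_mem hu, v⁻¹, inv_mem hv, inv_ne_one.2 h1, by group⟩, fun r => ?_⟩
  apply cj_inv_eq; rw [h2, R.s_s]

theorem IsM.mem {i : ι} {m : G} (h : R.IsM U i m) : m ∈ U (R.α i) ⊔ U (R.neg (R.α i)) := by
  obtain ⟨⟨v, hv, u, hu, v', hv', -, rfl⟩, -⟩ := h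
  exact mul_mem (mul_mem (mem_sup_right hv) (mem_sup_left hu)) (mem_sup_right hv')

theorem IsM.mem_univ {i : ι} {m : G} (h : R.IsM U i m) : m ∈ US U Set.univ :=
  (sup_le (le_US (Set.mem_univ _)) (le_US (Set.mem_univ _))) h.mem

theorem IsM.conj_Tor {i : ι} {m t : G} (h : R.IsM U i m) (ht : t ∈ Tor U) :
    R.IsM U i (t * m * t⁻¹) := by
  obtain ⟨⟨v, hv, u, hu, v', hv', h1, rfl⟩, h2⟩ := h
  have hT := mem_Tor.1 ht
  refine ⟨⟨_, hT _ ▸ conj_mem_cj (m := t) hv, _, hT _ ▸ conj_mem_cj (m := t) hu, _,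
    hT _ ▸ conj_mem_cj (m := t) hv', by simpa using h1, by group⟩, fun r => ?_⟩
  rw [cj_mul, cj_mul, mem_Tor.1 (inv_mem ht), h2, hT]

theorem IsM.mul_inv_mem {i : ι} {m m' : G} (h : R.IsM U i m) (h' : R.IsM U i m') :
    m * m'⁻¹ ∈ R.Hi U i := subset_closure ⟨m, m', h, h', rfl⟩

theorem IsM.mul_mem {i : ι} {m m' : G} (h : R.IsM U i m) (h' : R.IsM U i m') :
    m * m' ∈ R.Hi U i := by simpa using h.mul_inv_mem h'.inv

theorem Hi_le_Tor (i : ι) : R.Hi U i ≤ Tor U := by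
  rw [Hi, closure_le]
  rintro _ ⟨m, m', h, h', rfl⟩
  refine mem_Tor.2 fun r => ?_
  rw [cj_mul, h'.inv.2, h.2, R.s_s]

theorem Hi_le_H0 (i : ι) : R.Hi U i ≤ R.H0 U := le_iSup (R.Hi U) i

theorem H0_le_Tor : R.H0 U ≤ Tor U := iSup_le Hi_le_Tor

theorem Hi_le (i : ι) : R.Hi U i ≤ U (R.α i) ⊔ U (R.neg (R.α i)) := by
  rw [Hi, closure_le]
  rintro _ ⟨m, m', h, h', rfl⟩
  exact Subgroup.mul_mem _ h.mem (Subgroup.inv_mem _ h'.mem)

theorem H0_le_univ : R.H0 U ≤ US U Set.univ :=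
  iSup_le fun i => (Hi_le i).trans (sup_le (le_US (Set.mem_univ _)) (le_US (Set.mem_univ _)))

theorem IsM.conj_H0 {i : ι} {m h : G} (hm : R.IsM U i m) (hh : h ∈ R.H0 U) :
    m * h * m⁻¹ ∈ R.H0 U := by
  have : m * h * m⁻¹ = m * (h * m * h⁻¹)⁻¹ * h := by group
  rw [this]
  exact Subgroup.mul_mem _ (Hi_le_H0 i (hm.mul_inv_mem (hm.conj_Tor (H0_le_Tor hh)))) hh

theorem IsM.cj_H0 {i : ι} {m : G} (hm : R.IsM U i m) : cj m (R.H0 U) = R.H0 U :=
  cj_eq_of_le (cj_le_iff.2 fun _ => hm.conj_H0) (cj_le_iff.2 fun _ => hm.inv.conj_H0)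

theorem Tor_cj_Hi {t : G} (ht : t ∈ Tor U) (i : ι) : cj t (R.Hi U i) ≤ R.Hi U i := by
  rw [cj, Hi, MonoidHom.map_closure, closure_le]
  rintro _ ⟨_, ⟨m, m', h, h', rfl⟩, rfl⟩
  have := (h.conj_Tor ht).mul_inv_mem (h'.conj_Tor ht)
  have e : t * m * t⁻¹ * (t * m' * t⁻¹)⁻¹ = (MulAut.conj t).toMonoidHom (m * m'⁻¹) := by
    simp [mul_assoc]
  rwa [e] at this

theorem NW.acts {l : List ι} {n : G} (h : R.NW U l n) : R.Acts U n l := by
  induction h with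
  | nil => intro r; exact cj_one _
  | cons hm _ ih => exact hm.acts.mul ih

theorem NW.append {l l' : List ι} {n n' : G} (h : R.NW U l n) (h' : R.NW U l' n') :
    R.NW U (l ++ l') (n * n') := by
  induction h with
  | nil => simpa using h'
  | cons hm _ ih => rw [mul_assoc]; exact NW.cons hm ih

theorem NW.of_append {l l' : List ι} {n : G} (h : R.NW U (l ++ l') n) :
    ∃ n1 n2, R.NW U l n1 ∧ R.NW U l' n2 ∧ n = n1 * n2 := by
  induction l generalizing n with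
  | nil => exact ⟨1, n, NW.nil, h, (one_mul _).symm⟩
  | cons i l ih =>
    cases h with
    | cons hm hn =>
      obtain ⟨n1, n2, h1, h2, rfl⟩ := ih hn
      exact ⟨_, n2, NW.cons hm h1, h2, (mul_assoc _ _ _).symm⟩

theorem IsM.nw {i : ι} {m : G} (h : R.IsM U i m) : R.NW U [i] m := by
  simpa using NW.cons h NW.nil

theorem NW.inv {l : List ι} {n : G} (h : R.NW U l n) : R.NW U l.reverse n⁻¹ := by
  induction h with
  | nil => simpa using NW.nil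
  | cons hm _ ih => rw [List.reverse_cons, mul_inv_rev]; exact ih.append hm.inv.nw

theorem NW.mem_univ {l : List ι} {n : G} (h : R.NW U l n) : n ∈ US U Set.univ := by
  induction h with
  | nil => exact one_mem _
  | cons hm _ ih => exact Subgroup.mul_mem _ hm.mem_univ ih

theorem NW.cj_H0 {l : List ι} {n : G} (h : R.NW U l n) : cj n (R.H0 U) = R.H0 U := by
  induction h with
  | nil => exact cj_one _
  | cons hm _ ih => rw [cj_mul, ih, hm.cj_H0]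

theorem H0_nw {h : G} (hh : h ∈ R.H0 U) : ∃ l, R.NW U l h := by
  refine iSup_induction (R.Hi U) (C := fun h => ∃ l, R.NW U l h) hh ?_ ⟨_, NW.nil⟩ ?_
  · intro i x hx
    induction hx using closure_induction with
    | mem x hx =>
      obtain ⟨m, m', h, h', rfl⟩ := hx
      exact ⟨_, h.nw.append h'.inv.nw⟩
    | one => exact ⟨_, NW.nil⟩
    | mul x y _ _ hx hy => exact hx.elim fun _ hx => hy.elim fun _ hy => ⟨_, hx.append hy⟩
    | inv x _ hx => exact hx.elim fun _ hx => ⟨_, hx.inv⟩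
  · rintro x y ⟨_, hx⟩ ⟨_, hy⟩; exact ⟨_, hx.append hy⟩

namespace IsRGD

variable (h : R.IsRGD U)
include h

theorem isM_of {i : ι} {u : G} (hu : u ∈ U (R.α i)) (h1 : u ≠ 1) :
    ∃ v ∈ U (R.neg (R.α i)), ∃ v' ∈ U (R.neg (R.α i)), R.IsM U i (v * u * v') := by
  obtain ⟨v, hv, v', hv', h2⟩ := h.exM i u hu h1
  exact ⟨v, hv, v', hv', ⟨v, hv, u, hu, v', hv', h1, rfl⟩, h2⟩

theorem exists_isM (i : ι) : ∃ m, R.IsM U i m := by
  obtain ⟨⟨u, hu⟩, h1⟩ := ne_bot_iff_exists_ne_one.1 (h.ne_bot i)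
  obtain ⟨v, -, v', -, h2⟩ := h.isM_of hu (by simpa using h1)
  exact ⟨_, h2⟩

theorem exists_nw (l : List ι) : ∃ n, R.NW U l n := by
  induction l with
  | nil => exact ⟨1, NW.nil⟩
  | cons i l ih =>
    obtain ⟨n, hn⟩ := ih
    obtain ⟨m, hm⟩ := h.exists_isM i
    exact ⟨_, NW.cons hm hn⟩

theorem neg_ne_bot (i : ι) : U (R.neg (R.α i)) ≠ ⊥ := by
  obtain ⟨m, hm⟩ := h.exists_isM i
  rw [← R.s_α, ← hm.2, Ne, cj_eq_bot]; exact h.ne_bot i

theorem all_ne_bot (r : Φ) : U r ≠ ⊥ := by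
  obtain ⟨l, i, rfl⟩ := R.reach r
  obtain ⟨n, hn⟩ := h.exists_nw l
  rw [← hn.acts, Ne, cj_eq_bot]; exact h.ne_bot i

theorem not_neg_le (i : ι) : ¬ U (R.neg (R.α i)) ≤ US U R.Pos := fun h' =>
  h.neg_ne_bot i (by rw [← h.neg_inf i, eq_comm, inf_eq_left]; exact h')

theorem neg_ne_pos (i : ι) : U (R.neg (R.α i)) ≠ U (R.α i) := fun h' =>
  h.not_neg_le i (h' ▸ le_US (R.pos_α i))

/-- the opposite form of `exM` -/
theorem exM' {i : ι} {v : G} (hv : v ∈ U (R.neg (R.α i))) (h1 : v ≠ 1) :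
    ∃ u ∈ U (R.α i), ∃ u' ∈ U (R.α i), ∀ r, cj (u * v * u') (U r) = U (R.s i r) := by
  obtain ⟨m, hm⟩ := h.exists_isM i
  have e1 : cj m (U (R.neg (R.α i))) = U (R.α i) := by rw [hm.2, R.s_neg_α]
  have e2 : cj m⁻¹ (U (R.neg (R.α i))) = U (R.α i) := by rw [hm.inv.2, R.s_neg_α]
  obtain ⟨x, hx, x', hx', h2⟩ := h.exM i _ (e2 ▸ conj_mem_cj (m := m⁻¹) hv)
    (fun h' => h1 (conj_eq_one_iff.1 h'))
  refine ⟨_, e1 ▸ conj_mem_cj (m := m) hx, _, e1 ▸ conj_mem_cj (m := m) hx', fun r => ?_⟩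
  have : m * x * m⁻¹ * v * (m * x' * m⁻¹) = m * (x * (m⁻¹ * v * m⁻¹⁻¹) * x') * m⁻¹ := by group
  rw [this, cj_mul, cj_mul, hm.inv.2, h2, hm.2, R.s_s]

theorem eq_one_of_norm_neg {i : ι} {u : G} (hu : u ∈ U (R.α i))
    (hn : cj u (U (R.neg (R.α i))) = U (R.neg (R.α i))) : u = 1 := by
  by_contra h1
  obtain ⟨v, hv, v', hv', h2⟩ := h.exM i u hu h1
  have := h2 (R.neg (R.α i))
  rw [cj_mul, cj_mul, cj_self hv', hn, cj_self hv, R.s_neg_α] at this
  exact h.neg_ne_pos i this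

theorem eq_one_of_norm_pos {i : ι} {v : G} (hv : v ∈ U (R.neg (R.α i)))
    (hn : cj v (U (R.α i)) = U (R.α i)) : v = 1 := by
  by_contra h1
  obtain ⟨u, hu, u', hu', h2⟩ := h.exM' hv h1
  have := h2 (R.α i)
  rw [cj_mul, cj_mul, cj_self hu', hn, cj_self hu, R.s_α] at this
  exact h.neg_ne_pos i this.symm

/-- uniqueness of `m(u)` -/
theorem m_unique {i : ι} {u v v' w w' : G} (hv : v ∈ U (R.neg (R.α i)))
    (hv' : v' ∈ U (R.neg (R.α i))) (hw : w ∈ U (R.neg (R.α i))) (hw' : w' ∈ U (R.neg (R.α i)))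
    (h1 : cj (v * u * v') (U (R.α i)) = U (R.neg (R.α i)))
    (h2 : cj (v * u * v') (U (R.neg (R.α i))) = U (R.α i))
    (h3 : cj (w * u * w') (U (R.α i)) = U (R.neg (R.α i)))
    (h4 : cj (w * u * w') (U (R.neg (R.α i))) = U (R.α i)) : v * u * v' = w * u * w' := by
  set m := w * u * w' with hm
  have hb : m * (w'⁻¹ * v') * m⁻¹ ∈ U (R.α i) :=
    h4 ▸ conj_mem_cj (Subgroup.mul_mem _ (Subgroup.inv_mem _ hw') hv')
  have ha : v * w⁻¹ ∈ U (R.neg (R.α i)) := Subgroup.mul_mem _ hv (Subgroup.inv_mem _ hw)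
  have e : v * u * v' * m⁻¹ = v * w⁻¹ * (m * (w'⁻¹ * v') * m⁻¹) := by rw [hm]; group
  have e1 : cj (v * u * v' * m⁻¹) (U (R.α i)) = U (R.α i) := by rw [cj_mul, cj_inv_eq h4, h2]
  have e2 : cj (v * u * v' * m⁻¹) (U (R.neg (R.α i))) = U (R.neg (R.α i)) := by
    rw [cj_mul, cj_inv_eq h3, h1]
  rw [e] at e1 e2
  rw [cj_mul, cj_self hb] at e1
  have a1 := h.eq_one_of_norm_pos ha e1
  rw [a1, one_mul] at e2 e
  rw [h.eq_one_of_norm_neg hb e2, mul_inv_eq_one] at e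
  exact e

theorem conj_isM {i j : ι} {g m : G} {l : List ι} (hg : R.Acts U g l) (hl : R.wd l (R.α i) = R.α j)
    (hm : R.IsM U i m) : R.IsM U j (g * m * g⁻¹) := by
  obtain ⟨⟨v, hv, u, hu, v', hv', h1, rfl⟩, h2⟩ := hm
  have e1 : cj g (U (R.α i)) = U (R.α j) := by rw [hg, hl]
  have e2 : cj g (U (R.neg (R.α i))) = U (R.neg (R.α j)) := by rw [hg, wd_neg, hl]
  obtain ⟨w, hw, w', hw', h3⟩ := h.isM_of (e1 ▸ conj_mem_cj (m := g) hu) (by simpa using h1)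
  have e : g * (v * u * v') * g⁻¹ = g * v * g⁻¹ * (g * u * g⁻¹) * (g * v' * g⁻¹) := by group
  rw [e, h.m_unique (e2 ▸ conj_mem_cj (m := g) hv) (e2 ▸ conj_mem_cj (m := g) hv') hw hw']
  · exact h3
  · rw [← e, cj_mul, cj_mul, cj_inv_eq e1, h2, R.s_α, e2]
  · rw [← e, cj_mul, cj_mul, cj_inv_eq e2, h2, R.s_neg_α, e1]
  · rw [h3.2, R.s_α]
  · rw [h3.2, R.s_neg_α]

omit h in
theorem split_word {l : List ι} {r : Φ} (hr : R.pos r) (hl : ¬ R.pos (R.wd l.reverse r)) :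
    ∃ l1 j l2, l = l1 ++ j :: l2 ∧ R.wd l1 (R.α j) = r := by
  induction l generalizing r with
  | nil => exact absurd hr hl
  | cons i l ih =>
    by_cases e : r = R.α i
    · exact ⟨[], i, l, rfl, e.symm⟩
    · rw [List.reverse_cons, wd_append] at hl
      obtain ⟨l1, j, l2, rfl, h2⟩ := ih (R.s_pos i r hr e) hl
      exact ⟨i :: l1, j, l2, rfl, by rw [wd_cons, h2, R.s_s]⟩

/-- the deletion argument -/
theorem del {l : List ι} {n : G} (hn : R.NW U l n) :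
    n ∈ R.H0 U ∨ ∃ β i, R.pos β ∧ cj n (U β) = U (R.neg (R.α i)) := by
  induction hk : l.length using Nat.strong_induction_on generalizing l n with
  | _ k ih =>
  cases hn with
  | nil => exact Or.inl (one_mem _)
  | @cons i l m n hm hn =>
    by_cases hp : R.pos (R.wd l.reverse (R.α i))
    · refine Or.inr ⟨_, i, hp, ?_⟩
      rw [cj_mul, hn.acts, wd_wd_reverse, hm.2, R.s_α]
    · obtain ⟨l1, j, l2, rfl, e⟩ := split_word (R.pos_α i) hp
      obtain ⟨n1, n2, h1, h2, rfl⟩ := hn.of_append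
      cases h2 with
      | @cons _ _ m' n2 hm' h2 =>
      have h3 := Hi_le_H0 i (hm.mul_mem (h.conj_isM h1.acts e hm'))
      have e2 : m * (n1 * (m' * n2)) = m * (n1 * m' * n1⁻¹) * (n1 * n2) := by group
      rw [e2]
      rcases ih _ (by rw [← hk]; simp) (h1.append h2) rfl with h4 | ⟨β, i', h4, h5⟩
      · exact Or.inl (Subgroup.mul_mem _ h3 h4)
      · exact Or.inr ⟨β, i', h4, by rw [cj_mul, h5, mem_Tor.1 (H0_le_Tor h3)]⟩

theorem cj_Pi {i : ι} {m : G} (hm : R.IsM U i m) : cj m (US U (R.Pi i)) ≤ US U (R.Pi i) :=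
  hm.acts.cj_US fun _ hr => R.s_mem_Pi hr

theorem bruhat_step {i : ι} {m u n : G} {l : List ι} (hm : R.IsM U i m) (hu : u ∈ US U R.Pos)
    (hn : R.NW U l n) :
    ∃ a ∈ US U R.Pos, ∃ l' n', R.NW U l' n' ∧ ∃ b ∈ US U R.Pos, m * u * n = a * n' * b := by
  rw [R.Pos_eq i, US_insert] at hu
  obtain ⟨u1, hu1, a, ha, rfl⟩ := mem_sup_norm' (h.comm.commPos.norm_Pi i) hu
  have h1 : m * u1 * m⁻¹ ∈ US U R.Pos :=
    US_mono (R.Pi_subset i) (h.cj_Pi hm (conj_mem_cj hu1))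
  by_cases hp : R.pos (R.wd l.reverse (R.α i))
  · refine ⟨_, h1, _, _, NW.cons hm hn, n⁻¹ * a * n⁻¹⁻¹, le_US hp ?_, by group⟩
    rw [← hn.inv.acts]; exact conj_mem_cj ha
  · by_cases ha1 : a = 1
    · exact ⟨_, h1, _, _, NW.cons hm hn, 1, one_mem _, by rw [ha1]; group⟩
    · obtain ⟨v, hv, v', hv', h2⟩ := h.isM_of ha ha1
      have h3 : m * v⁻¹ * m⁻¹ ∈ US U R.Pos := by
        refine le_US (R.pos_α i) ?_
        rw [← R.s_neg_α, ← hm.2]; exact conj_mem_cj (inv_mem hv)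
      have h4 : n⁻¹ * v'⁻¹ * n⁻¹⁻¹ ∈ US U R.Pos := by
        refine le_US ((R.pos_neg _).2 hp) ?_
        rw [← wd_neg, ← hn.inv.acts]; exact conj_mem_cj (inv_mem hv')
      exact ⟨_, Subgroup.mul_mem _ h1 h3, _, _, NW.cons hm (NW.cons h2 hn), _, h4, by group⟩

theorem bruhat_nw {l0 : List ι} {n0 : G} (h0 : R.NW U l0 n0) {u n : G} {l : List ι}
    (hu : u ∈ US U R.Pos) (hn : R.NW U l n) :
    ∃ a ∈ US U R.Pos, ∃ l' n', R.NW U l' n' ∧ ∃ b ∈ US U R.Pos, n0 * u * n = a * n' * b := by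
  induction h0 with
  | nil => exact ⟨u, hu, l, n, hn, 1, one_mem _, by group⟩
  | @cons i l0 m n0 hm _ ih =>
    obtain ⟨a, ha, l', n', hn', b, hb, e⟩ := ih
    obtain ⟨a', ha', l'', n'', hn'', b', hb', e'⟩ := h.bruhat_step hm ha hn'
    refine ⟨a', ha', l'', n'', hn'', b' * b, Subgroup.mul_mem _ hb' hb, ?_⟩
    rw [mul_assoc m, mul_assoc m, e, ← mul_assoc, ← mul_assoc, e', mul_assoc]

/-- Bruhat decomposition (existence) -/
theorem bruhat {g : G} (hg : g ∈ US U Set.univ) :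
    ∃ a ∈ US U R.Pos, ∃ l n, R.NW U l n ∧ ∃ b ∈ US U R.Pos, g = a * n * b := by
  let P : G → Prop := fun g => ∃ a ∈ US U R.Pos, ∃ l n, R.NW U l n ∧ ∃ b ∈ US U R.Pos, g = a * n * b
  have hN : ∀ {l0 n0}, R.NW U l0 n0 → ∀ g, P g → P (n0 * g) := by
    rintro l0 n0 h0 _ ⟨a, ha, l, n, hn, b, hb, rfl⟩
    obtain ⟨a', ha', l', n', hn', b', hb', e⟩ := h.bruhat_nw h0 ha hn
    exact ⟨a', ha', l', n', hn', b' * b, Subgroup.mul_mem _ hb' hb, by
      rw [← mul_assoc, ← mul_assoc, e, mul_assoc]⟩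
  have hU : ∀ u ∈ US U R.Pos, ∀ g, P g → P (u * g) := by
    rintro u hu _ ⟨a, ha, l, n, hn, b, hb, rfl⟩
    exact ⟨u * a, Subgroup.mul_mem _ hu ha, l, n, hn, b, hb, by group⟩
  have key : ∀ x ∈ US U Set.univ, ∀ g, P g → P (x * g) := by
    intro x hx
    have hx' : x ∈ ⨆ r, U r := by simpa [US] using hx
    refine iSup_induction U (C := fun x => ∀ g, P g → P (x * g)) hx' ?_ (by simp) ?_
    · intro r x hx g hg
      obtain ⟨l, i, rfl⟩ := R.reach r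
      obtain ⟨n, hn⟩ := h.exists_nw l
      rw [← hn.acts, mem_cj] at hx
      have := hN hn _ (hU _ (le_US (R.pos_α i) hx) _ (hN hn.inv g hg))
      simpa [mul_assoc] using this
    · intro x y hx hy g hg
      rw [mul_assoc]; exact hx _ (hy _ hg)
  simpa using key g hg 1 ⟨1, one_mem _, [], 1, NW.nil, 1, one_mem _, by simp⟩

theorem α_inf (i : ι) : U (R.α i) ⊓ US U (R.Pi i) = ⊥ := by
  obtain ⟨m, hm⟩ := h.exists_isM i
  rw [← cj_eq_bot (m := m), cj_inf, hm.2, R.s_α, eq_bot_iff, ← h.neg_inf i]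
  exact inf_le_inf_left _ ((h.cj_Pi hm).trans (US_mono (R.Pi_subset i)))

theorem nf : R.NF U := by
  intro l i hr
  obtain ⟨n, hn⟩ := h.exists_nw l
  rw [← cj_eq_bot (m := n), cj_inf, hn.acts, wd_wd_reverse, eq_bot_iff, ← h.α_inf i]
  exact inf_le_inf_left _ (hn.acts.cj_US fun r hr' => ((R.mem_St_cons hr).1 hr').2)

omit h in
theorem exists_long [Finite Φ] : ∃ l, R.St l = ∅ :=
  R.St_induction (fun S => ∀ l, R.St l = S → ∃ l, R.St l = ∅) (fun l hl => ⟨l, hl⟩)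
    (fun _ _ _ ih _ _ => ih _ rfl) [] [] rfl

theorem op [Finite Φ] : R.op.IsRGD U where
  comm := h.comm.op
  exM i u hu h1 := by
    change ∃ v ∈ U (R.neg (R.neg _)), ∃ v' ∈ U (R.neg (R.neg _)), _
    rw [R.neg_neg]
    exact h.exM' hu h1
  ne_bot := h.neg_ne_bot
  neg_inf i := by
    obtain ⟨l, hl⟩ := exists_long (R := R)
    have h1 : ∀ r, R.pos r → ¬ R.pos (R.wd l r) := fun r h1 h2 =>
      Set.eq_empty_iff_forall_notMem.1 hl r ⟨h1, h2⟩
    have h2 : ∀ r, R.op.pos r → R.pos (R.wd l r) := fun r hr => by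
      have := h1 _ hr
      rwa [wd_neg, R.pos_neg, not_not] at this
    have h3 : ∀ r, R.pos r → R.op.pos (R.wd l.reverse r) := fun r hr =>
      (R.pos_neg _).2 fun e => h1 _ e (by rwa [wd_wd_reverse])
    obtain ⟨j, hj⟩ : ∃ j, R.wd l (R.neg (R.α i)) = R.α j := by
      refine (R.gen (fun t => (∃ j, t = R.α j) ∨ ∃ r s, R.pos r ∧ R.pos s ∧ t ∈ R.I r s)
        (fun j => Or.inl ⟨j, rfl⟩) (fun r s t hr hs _ _ ht => Or.inr ⟨r, s, hr, hs, ht⟩) _
        (h2 _ (R.op.pos_α i))).resolve_right ?_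
      rintro ⟨r, s, hr, hs, ht⟩
      have := R.wd_I l.reverse ht
      rw [wd_reverse_wd] at this
      exact (R.op.I_pos _ _ _ (h3 r hr) (h3 s hs) this).2 i rfl
    obtain ⟨n, hn⟩ := h.exists_nw l
    change U (R.neg (R.neg (R.α i))) ⊓ _ = ⊥
    rw [← cj_eq_bot (m := n), cj_inf, hn.acts, wd_neg, hj, eq_bot_iff, ← h.neg_inf j]
    exact inf_le_inf_left _ (hn.acts.cj_US h2)

theorem nf' [Finite Φ] : R.op.NF U := h.op.nf

end IsRGD

end RC

end Cfsg.Agent.RG
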