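import Cfsg.Agent.RG.Core

set_option autoImplicit false

/-! Lifting root group data along homomorphisms that are injective on root groups. -/

namespace Cfsg.Agent.RG

open Subgroup Cfsg.Agent.RGD
open scoped commutatorElement Pointwise

namespace RC

variable {Φ ι : Type*} (R : RC Φ ι) {G Δ : Type*} [Group G] [Group Δ]

/-- a simple root group is generated by commutators, modulo the other positive root groups -/
def GenHyp (U : Φ → Subgroup G) : Prop :=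
  ∀ i, ∃ δ γ, δ ≠ R.α i ∧ δ ≠ R.neg (R.α i) ∧ γ ≠ R.α i ∧ γ ≠ R.neg (R.α i) ∧ γ ≠ δ ∧
    γ ≠ R.neg δ ∧ R.I δ γ ⊆ R.Pos ∧ U (R.α i) ≤ ⁅U δ, U γ⁆ ⊔ US U (R.Pi i)

/-- root group data with normal forms -/
structure Good (U : Φ → Subgroup G) : Prop extends R.IsRGD U where
  hU : R.H0 U ⊓ US U R.Pos = ⊥

/-- `θ` maps each `V r` isomorphically onto `U r` -/
structure Over (θ : Δ →* G) (V : Φ → Subgroup Δ) (U : Φ → Subgroup G) : Prop where
  map : ∀ r, (V r).map θ = U r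
  ker : ∀ r, V r ⊓ θ.ker = ⊥

variable {R} {U : Φ → Subgroup G} {V : Φ → Subgroup Δ} {θ : Δ →* G}

namespace Over

variable (o : Over θ V U)
include o

theorem eq : (fun r => (V r).map θ) = U := funext o.map

theorem map_US (S : Set Φ) : (US V S).map θ = US U S := map_US' θ o.map S

theorem mem {r : Φ} {x : Δ} (hx : x ∈ V r) : θ x ∈ U r := o.map r ▸ mem_map_of_mem θ hx

theorem mem_US {S : Set Φ} {x : Δ} (hx : x ∈ US V S) : θ x ∈ US U S :=
  o.map_US S ▸ mem_map_of_mem θ hx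

theorem exists_mem {r : Φ} {y : G} (hy : y ∈ U r) : ∃ x ∈ V r, θ x = y := by
  rw [← o.map] at hy; exact hy

theorem eq_one {r : Φ} {x : Δ} (hx : x ∈ V r) (h : θ x = 1) : x = 1 := by
  have : x ∈ V r ⊓ θ.ker := ⟨hx, h⟩
  rwa [o.ker] at this

theorem isM {i : ι} {m : Δ} (hm : R.IsM V i m) : R.IsM U i (θ m) := by
  obtain ⟨⟨v, hv, u, hu, v', hv', h1, rfl⟩, h2⟩ := hm
  refine ⟨⟨θ v, o.mem hv, θ u, o.mem hu, θ v', o.mem hv', fun h => h1 (o.eq_one hu h), by simp⟩,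
    fun r => ?_⟩
  rw [← o.map, ← map_cj, h2, o.map]

theorem map_Hi (i : ι) : (R.Hi V i).map θ ≤ R.Hi U i := by
  rw [Hi, MonoidHom.map_closure, closure_le]
  rintro _ ⟨_, ⟨m, m', h, h', rfl⟩, rfl⟩
  have := (o.isM h).mul_inv_mem (o.isM h')
  rwa [← map_inv, ← map_mul] at this

theorem map_H0 : (R.H0 V).map θ ≤ R.H0 U := by
  rw [H0, Subgroup.map_iSup]
  exact iSup_le fun i => (o.map_Hi i).trans (Hi_le_H0 i)

theorem pos_ker [Finite Φ] (hc : R.CommPos V) (hU : R.NF U) : US V R.Pos ⊓ θ.ker = ⊥ :=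
  hc.inf_ker (fun r _ => o.ker r) (o.eq ▸ hU)

theorem commute_of_Tor {k : Δ} (hk : k ∈ θ.ker) (hT : k ∈ Tor V) {x : Δ}
    (hx : x ∈ US V Set.univ) : Commute k x := by
  have : US V Set.univ ≤ centralizer {k} := by
    refine US_le fun r _ y hy => mem_centralizer_singleton_iff.2 ?_
    have h1 : k * y * k⁻¹ ∈ V r := mem_Tor.1 hT r ▸ conj_mem_cj hy
    have := eq_of_inf_ker (o.ker r) h1 hy (by simp [MonoidHom.mem_ker.1 hk])
    rw [mul_inv_eq_iff_eq_mul] at this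
    exact this.symm
  exact (mem_centralizer_singleton_iff.1 (this hx)).symm

theorem cj_eq_of_le {X : Subgroup Δ} (hX : X ⊓ θ.ker = ⊥) {m : Δ} {r r' : Φ}
    (h1 : cj m (V r) ≤ X) (h2 : V r' ≤ X) (h3 : cj (θ m) (U r) = U r') : cj m (V r) = V r' := by
  have e : (cj m (V r)).map θ = (V r').map θ := by rw [map_cj, o.map, o.map, h3]
  exact le_antisymm (le_of_map_le hX h1 h2 e.le) (le_of_map_le hX h2 h1 e.ge)

theorem cj_Pi [Finite Φ] (hc : R.CommRel V) (hU : R.NF U) {i : ι} {m : Δ}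
    (hm : m ∈ V (R.α i) ⊔ V (R.neg (R.α i))) (h : ∀ r, cj (θ m) (U r) = U (R.s i r)) {r : Φ}
    (hr : r ∈ R.Pi i) : cj m (V r) = V (R.s i r) := by
  have h1 : cj m (US V (R.Pi i)) = US V (R.Pi i) :=
    mem_normalizer_iff_cj.1 (sup_le (hc.commPos.norm_Pi i) (hc.norm_Pi_neg i) hm)
  refine o.cj_eq_of_le (o.pos_ker hc.commPos hU) ?_ (le_US (R.s_mem_Pi hr).1) (h r)
  exact (cj_mono m (le_US hr)).trans (h1.le.trans (US_mono (R.Pi_subset i)))

theorem cj_ne [Finite Φ] (hc : R.CommRel V) (hU : R.NF U) (hU' : R.op.NF U) {i : ι} {m : Δ}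
    (hm : m ∈ V (R.α i) ⊔ V (R.neg (R.α i))) (h : ∀ r, cj (θ m) (U r) = U (R.s i r)) {r : Φ}
    (h1 : r ≠ R.α i) (h2 : r ≠ R.neg (R.α i)) : cj m (V r) = V (R.s i r) := by
  by_cases hr : R.pos r
  · exact o.cj_Pi hc hU hm h ⟨hr, h1⟩
  · refine o.cj_Pi (R := R.op) hc.op hU' (i := i) ?_ h ⟨(R.pos_neg r).2 hr, h2⟩
    change m ∈ V (R.neg (R.α i)) ⊔ V (R.neg (R.neg (R.α i)))
    rwa [R.neg_neg, sup_comm]

theorem cj_α [Finite Φ] (hc : R.CommRel V) (hU : R.Good U) (hg : R.GenHyp U) {i : ι} {m : Δ}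
    (hm : m ∈ V (R.α i) ⊔ V (R.neg (R.α i))) (h : ∀ r, cj (θ m) (U r) = U (R.s i r)) :
    cj m (V (R.α i)) = V (R.neg (R.α i)) := by
  obtain ⟨δ, γ, h1, h2, h3, h4, h5, h6, h7, h8⟩ := hg i
  have hp := o.pos_ker hc.commPos hU.nf
  have e1 : V (R.α i) ≤ ⁅V δ, V γ⁆ ⊔ US V (R.Pi i) := by
    refine le_of_map_le hp (le_US (R.pos_α i))
      (sup_le ((hc δ γ h5 h6).trans (US_mono h7)) (US_mono (R.Pi_subset i))) ?_
    rwa [Subgroup.map_sup, map_commutator, o.map, o.map, o.map, o.map_US]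
  have hX : (V (R.neg (R.α i)) ⊔ US V (R.Pi i)) ⊓ θ.ker = ⊥ := by
    rw [eq_bot_iff]
    rintro x ⟨hx, hx'⟩
    obtain ⟨a, ha, b, hb, rfl⟩ := mem_sup_norm (hc.norm_Pi_neg i) hx
    have e : θ a = (θ b)⁻¹ := by
      rw [eq_inv_iff_mul_eq_one, ← map_mul]; exact hx'
    have h9 : θ a ∈ U (R.neg (R.α i)) ⊓ US U R.Pos :=
      ⟨o.mem ha, e ▸ Subgroup.inv_mem _ (o.mem_US (US_mono (R.Pi_subset i) hb))⟩
    rw [hU.neg_inf] at h9
    rw [o.eq_one ha h9, one_mul] at hx' ⊢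
    rw [← hp]; exact ⟨US_mono (R.Pi_subset i) hb, hx'⟩
  refine o.cj_eq_of_le hX ((cj_mono m e1).trans ?_) le_sup_left (by rw [h, R.s_α])
  rw [cj_sup, cj_commutator, o.cj_ne hc hU.nf hU.nf' hm h h1 h2, o.cj_ne hc hU.nf hU.nf' hm h h3 h4]
  refine sup_le ((hc _ _ (fun e => h5 (R.s_inj e)) (fun e => h6 (R.s_inj (e.trans (R.s_neg _ _).symm)))).trans
    (US_le fun t ht => ?_)) ?_
  · have h9 := R.I_s i _ _ _ ht
    rw [R.s_s, R.s_s] at h9
    by_cases e : R.s i t = R.α i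
    · rw [← R.s_s i t, e, R.s_α]; exact le_sup_left
    · have := R.s_mem_Pi (⟨h7 h9, e⟩ : R.s i t ∈ R.Pi i)
      rw [R.s_s] at this
      exact (le_US this).trans le_sup_right
  · exact (mem_normalizer_iff_cj.1
      (sup_le (hc.commPos.norm_Pi i) (hc.norm_Pi_neg i) hm)).le.trans le_sup_right

theorem cj_all [Finite Φ] (hc : R.CommRel V) (hU : R.Good U) (hg : R.GenHyp U) {i : ι} {m : Δ}
    (hm : m ∈ V (R.α i) ⊔ V (R.neg (R.α i))) (h : ∀ r, cj (θ m) (U r) = U (R.s i r)) (r : Φ) :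
    cj m (V r) = V (R.s i r) := by
  by_cases h1 : r = R.α i
  · rw [h1, R.s_α]; exact o.cj_α hc hU hg hm h
  by_cases h2 : r = R.neg (R.α i)
  · rw [h2, R.s_neg_α, ← inv_inv m]
    refine cj_inv_eq (o.cj_α hc hU hg (inv_mem hm) fun r => ?_)
    rw [map_inv]; apply cj_inv_eq; rw [h, R.s_s]
  · exact o.cj_ne hc hU.nf hU.nf' hm h h1 h2

theorem isRGD_of (hc : R.CommRel V) (hU : R.IsRGD U)
    (h : ∀ i, ∀ m ∈ V (R.α i) ⊔ V (R.neg (R.α i)), (∀ r, cj (θ m) (U r) = U (R.s i r)) →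
      ∀ r, cj m (V r) = V (R.s i r)) : R.IsRGD V where
  comm := hc
  exM i u hu h1 := by
    obtain ⟨v, hv, v', hv', h2⟩ := hU.exM i _ (o.mem hu) (fun h => h1 (o.eq_one hu h))
    obtain ⟨w, hw, rfl⟩ := o.exists_mem hv
    obtain ⟨w', hw', rfl⟩ := o.exists_mem hv'
    refine ⟨w, hw, w', hw', h i _ ?_ (by simpa using h2)⟩
    exact mul_mem (mul_mem (mem_sup_right hw) (mem_sup_left hu)) (mem_sup_right hw')
  ne_bot i h := hU.ne_bot i (by rw [← o.map, h, Subgroup.map_bot])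
  neg_inf i := by
    rw [eq_bot_iff]
    rintro x ⟨h1, h2⟩
    have : θ x ∈ U (R.neg (R.α i)) ⊓ US U R.Pos := ⟨o.mem h1, o.mem_US h2⟩
    rw [hU.neg_inf] at this
    exact o.eq_one h1 this

theorem good_of [Finite Φ] (hV : R.IsRGD V) (hU : R.Good U) : R.Good V where
  toIsRGD := hV
  hU := by
    rw [eq_bot_iff]
    rintro x ⟨h1, h2⟩
    have : θ x ∈ R.H0 U ⊓ US U R.Pos := ⟨o.map_H0 (mem_map_of_mem θ h1), o.mem_US h2⟩
    rw [hU.hU] at this
    rw [← o.pos_ker hV.comm.commPos hU.nf]; exact ⟨h2, this⟩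

/-- the lifting theorem -/
theorem good [Finite Φ] (hc : R.CommRel V) (hU : R.Good U) (hg : R.GenHyp U) : R.Good V :=
  o.good_of (o.isRGD_of hc hU.toIsRGD fun _ _ hm h => o.cj_all hc hU hg hm h) hU

theorem genHyp [Finite Φ] (hc : R.CommRel V) (hU : R.NF U) (hg : R.GenHyp U) : R.GenHyp V := by
  intro i
  obtain ⟨δ, γ, h1, h2, h3, h4, h5, h6, h7, h8⟩ := hg i
  refine ⟨δ, γ, h1, h2, h3, h4, h5, h6, h7, ?_⟩
  refine le_of_map_le (o.pos_ker hc.commPos hU) (le_US (R.pos_α i))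
    (sup_le ((hc δ γ h5 h6).trans (US_mono h7)) (US_mono (R.Pi_subset i))) ?_
  rwa [Subgroup.map_sup, map_commutator, o.map, o.map, o.map, o.map_US]

/-- the preimage of a torus lies in the torus -/
theorem comap_le [Finite Φ] (hV : R.IsRGD V) (hU : R.IsRGD U) {D : Subgroup G} (hD : D ≤ Tor U)
    (h0 : R.H0 U ≤ D) (hDU : D ⊓ US U R.Pos = ⊥) : D.comap θ ⊓ US V Set.univ ≤ R.H0 V := by
  rintro k ⟨hk, hk'⟩
  obtain ⟨a, ha, l, n, hn, b, hb, rfl⟩ := hV.bruhat hk'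
  have hk1 : θ (a * n * b) ∈ D := hk
  have ha' := o.mem_US ha
  have hb' := o.mem_US hb
  rcases hV.del hn with h2 | ⟨β, i, h2, h3⟩
  · have h3 : θ n ∈ D := h0 (o.map_H0 (mem_map_of_mem θ h2))
    have h4 : a * (n * b * n⁻¹) ∈ US V R.Pos :=
      Subgroup.mul_mem _ ha (Tor_cj_US (H0_le_Tor h2) R.Pos ▸ conj_mem_cj hb)
    have h5 : θ (a * (n * b * n⁻¹)) ∈ D ⊓ US U R.Pos := ⟨by
      rw [← mul_assoc, ← mul_assoc, map_mul, map_inv]
      exact D.mul_mem hk1 (D.inv_mem h3), o.mem_US h4⟩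
    rw [hDU] at h5
    have h6 : a * (n * b * n⁻¹) ∈ US V R.Pos ⊓ θ.ker := ⟨h4, h5⟩
    rw [o.pos_ker hV.comm.commPos hU.nf, mem_bot, ← mul_assoc, ← mul_assoc, mul_inv_eq_one] at h6
    rwa [h6]
  · exfalso
    refine hU.not_neg_le i ?_
    have e : θ n = (θ a)⁻¹ * θ (a * n * b) * (θ b)⁻¹ := by simp [mul_assoc]
    rw [← o.map, ← h3, map_cj, o.map]
    refine (cj_mono _ (le_US (S := R.Pos) h2)).trans (le_of_eq ?_)
    rw [e, cj_mul, cj_mul, cj_self (inv_mem hb'), Tor_cj_US (hD hk1), cj_self (inv_mem ha')]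

/-- the kernel lies in the torus -/
theorem ker_le [Finite Φ] (hV : R.IsRGD V) (hU : R.Good U) : θ.ker ⊓ US V Set.univ ≤ R.H0 V :=
  (inf_le_inf_right _ fun k hk => by
    rw [mem_comap, MonoidHom.mem_ker.1 hk]; exact one_mem _).trans
    (o.comap_le hV hU.toIsRGD H0_le_Tor le_rfl hU.hU)

theorem ker_central [Finite Φ] (hV : R.IsRGD V) (hU : R.Good U) (ht : US V Set.univ = ⊤) :
    θ.ker ≤ center Δ := by
  intro k hk
  rw [mem_center_iff]
  intro g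
  exact (o.commute_of_Tor hk (H0_le_Tor (o.ker_le hV hU ⟨hk, ht ▸ mem_top k⟩))
    (ht ▸ mem_top g)).symm.eq

theorem T_ker [Finite Φ] (hV : R.IsRGD V) (hU : R.Good U) {r s : Φ} (h : s ≠ R.neg r) :
    US V (R.T r s) ⊓ θ.ker = ⊥ := by
  obtain ⟨l, hl⟩ := R.exists_wd_T h
  obtain ⟨n, hn⟩ := hV.exists_nw l
  refine inf_ker_cj n ?_
  rcases hl with hl | hl
  · exact inf_ker_mono (hn.acts.cj_US hl) (o.pos_ker hV.comm.commPos hU.nf)
  · exact inf_ker_mono (hn.acts.cj_US hl) (o.pos_ker (R := R.op) hV.comm.op.commPos hU.nf')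

theorem comp {E : Type*} [Group E] {π : E →* Δ} {Y : Φ → Subgroup E} (o' : Over π Y V) :
    Over (θ.comp π) Y U where
  map r := by rw [← map_map, o'.map, o.map]
  ker r := by
    rw [eq_bot_iff]
    rintro x ⟨h1, h2⟩
    exact o'.eq_one h1 (o.eq_one (o'.mem h1) h2)

end Over

end RC

end Cfsg.Agent.RG
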